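import Cfsg.Agent.H493.RatB.WitS
import Cfsg.Agent.H492.K4J4
import Cfsg.Agent.H859.CentC

/-!
# The row `J4`, `p = 11` of S4891 (helper84)
-/

set_option autoImplicit false

namespace Cfsg.Agent.H84.RatB.J4

open Cfsg Subgroup Cfsg.Agent.Blocks Cfsg.Agent.H493.RatB Cfsg.Agent.H859

universe u

theorem witR : WitR 11 Cfsg.Spor.J4 := by
  have : Finite Cfsg.Spor.J4 := SylEleven.finite_J4
  have : Fact (Nat.Prime 11) := ⟨by norm_num⟩
  obtain ⟨χ, h1, h2⟩ := Cfsg.Agent.H492.K4J4.val_889111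
  have hd : charDegree (χ : Cfsg.Spor.J4 → ℂ) = 889111 := Blocks.Basic.charDegree_of_eq h1
  refine witR_of_cent SylEleven.isPGroup_U (SylEleven.isPGroup_U.to_le CentC.centralizer_U_le) χ ?_ ?_ ?_
  · intro h
    rw [h] at h1
    have h3 : (1 : ℂ) = ((889111 : ℕ) : ℂ) := h1
    have h4 : (1 : ℕ) = 889111 := by exact_mod_cast h3
    omega
  · rw [hd]
    omega
  · intro g
    apply Characters.GaloisBasic.exists_rat_of_forall_ringEquiv
    · exact (Characters.GaloisBasic.isIntegral_apply (Characters.Core.isIrr_isCharacter χ.2) g).tower_top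
    · intro σ
      exact h2 (σ : ℂ →+* ℂ) g

theorem witR_j4_eleven {S : Type u} [Group S] (h : Cfsg.Spor.IsoJ4 S) : WitR 11 S := by
  obtain ⟨e⟩ := h
  have : Finite Cfsg.Spor.J4 := SylEleven.finite_J4
  have : Finite S := Finite.of_equiv _ e.symm.toEquiv
  exact WitR.congr e witR

end Cfsg.Agent.H84.RatB.J4
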